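import Mathlib

/-!
# Formal functions: the pure algebra

Abstract (sheaf-free) form of the Artin–Rees / Mittag-Leffler arguments in the proof of the theorem on
formal functions (EGA III 4.1.5).  A "graded module over the Rees algebra `⊕ I^k`" is presented as a
family of `A`-modules `N k` with multiplication maps `μ k a : N k → N (k+1)` for `a ∈ I`;
`GrNoeth I μ` is the elementary form of "the graded module `⊕ N k` is Noetherian".
-/

set_option autoImplicit false
universe u v w w'

namespace Groth.Agent.H93.FF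

variable {A : Type u} [CommRing A] (I : Ideal A)

section GrNoeth

variable {N : ℕ → Type v} [∀ k, AddCommGroup (N k)] [∀ k, Module A (N k)]
  (μ : ∀ k, I → (N k →ₗ[A] N (k + 1)))

/-- `I · Q ⊆ N (k+1)`: the span of the `μ_a x`, `a ∈ I`, `x ∈ Q`. -/
def mulSpan (k : ℕ) (Q : Submodule A (N k)) : Submodule A (N (k + 1)) :=
  Submodule.span A {y | ∃ (a : I) (x : N k), x ∈ Q ∧ μ k a x = y}

/-- Elementary form of "`⊕ N k` is a Noetherian graded module over the Rees algebra `⊕ I^k`":
every family of submodules stable under the multiplications is eventually generated by the previous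
degree. -/
def GrNoeth : Prop :=
  ∀ Q : ∀ k, Submodule A (N k), (∀ k (a : I) (x : N k), x ∈ Q k → μ k a x ∈ Q (k + 1)) →
    ∃ d : ℕ, ∀ k, d ≤ k → Q (k + 1) ≤ mulSpan I μ k (Q k)

variable {I μ}

/-- induction principle for `mulSpan` -/
theorem mulSpan_induction {k : ℕ} {Q : Submodule A (N k)} {P : N (k + 1) → Prop}
    (hgen : ∀ (a : I) (x : N k), x ∈ Q → P (μ k a x)) (h0 : P 0)
    (hadd : ∀ x y, P x → P y → P (x + y)) (hsmul : ∀ (r : A) x, P x → P (r • x))
    {y : N (k + 1)} (hy : y ∈ mulSpan I μ k Q) : P y := by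
  induction hy using Submodule.span_induction with
  | mem y hy =>
    obtain ⟨a, x, hx, rfl⟩ := hy
    exact hgen a x hx
  | zero => exact h0
  | add x y _ _ hx hy => exact hadd x y hx hy
  | smul r x _ hx => exact hsmul r x hx

/-- **Good filtration**: if `⊕ N k` is Noetherian over the Rees algebra and `φ k : N k → H` are
compatible with the multiplications, then `range φ (k+1) = I • range φ k` for `k` large. -/
theorem exists_range_succ_eq (hN : GrNoeth I μ) {H : Type w} [AddCommGroup H] [Module A H]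
    (φ : ∀ k, N k →ₗ[A] H)
    (hφ : ∀ k (a : I) (x : N k), φ (k + 1) (μ k a x) = (a : A) • φ k x) :
    ∃ d : ℕ, ∀ k, d ≤ k → LinearMap.range (φ (k + 1)) = I • LinearMap.range (φ k) := by
  obtain ⟨d, hd⟩ := hN (fun _ => ⊤) (fun _ _ _ _ => Submodule.mem_top)
  refine ⟨d, fun k hk => le_antisymm ?_ ?_⟩
  · rintro _ ⟨x, rfl⟩
    have hx : x ∈ mulSpan I μ k ⊤ := hd k hk Submodule.mem_top
    refine mulSpan_induction (P := fun y => φ (k + 1) y ∈ I • LinearMap.range (φ k))
      ?_ ?_ ?_ ?_ hx
    · intro a x _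
      rw [hφ]
      exact Submodule.smul_mem_smul a.2 ⟨x, rfl⟩
    · simp
    · intro x y hx hy
      rw [map_add]
      exact add_mem hx hy
    · intro r x hx
      rw [map_smul]
      exact Submodule.smul_mem _ r hx
  · rw [Submodule.smul_le]
    rintro a ha _ ⟨x, rfl⟩
    exact ⟨μ k ⟨a, ha⟩ x, hφ k ⟨a, ha⟩ x⟩

/-- consequence of the good filtration: `range φ (d + m) = I^m • range φ d`. -/
theorem range_add_eq_pow_smul {H : Type w} [AddCommGroup H] [Module A H]
    (φ : ∀ k, N k →ₗ[A] H) (d : ℕ)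
    (hd : ∀ k, d ≤ k → LinearMap.range (φ (k + 1)) = I • LinearMap.range (φ k)) (m : ℕ) :
    LinearMap.range (φ (d + m)) = I ^ m • LinearMap.range (φ d) := by
  induction m with
  | zero => simp
  | succ m ih =>
    rw [← add_assoc, hd (d + m) (Nat.le_add_right d m), ih, ← mul_smul, pow_succ']

/-- **Artin–Rees form**: `range φ (k + d) ≤ I^k • ⊤`. -/
theorem exists_range_le_pow_smul_top (hN : GrNoeth I μ) {H : Type w} [AddCommGroup H] [Module A H]
    (φ : ∀ k, N k →ₗ[A] H)
    (hφ : ∀ k (a : I) (x : N k), φ (k + 1) (μ k a x) = (a : A) • φ k x) :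
    ∃ d : ℕ, ∀ k, LinearMap.range (φ (k + d)) ≤ I ^ k • (⊤ : Submodule A H) := by
  obtain ⟨d, hd⟩ := exists_range_succ_eq hN φ hφ
  refine ⟨d, fun k => ?_⟩
  rw [add_comm, range_add_eq_pow_smul φ d hd k]
  exact Submodule.smul_mono le_rfl le_top

section Trans

variable (j : ∀ k l, k ≤ l → (N l →ₗ[A] N k))

/-- **Vanishing of transitions**: in a Noetherian graded module with transition maps `j` such that
`j ∘ μ_a = a`, a stable family of submodules `Q k` with `I^k Q k = 0` is Mittag-Leffler-zero: the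
transitions `Q l → Q k` vanish for `l ≥ k + c`. -/
theorem exists_trans_eq_zero (hN : GrNoeth I μ)
    (hj_comp : ∀ k l m (h₁ : k ≤ l) (h₂ : l ≤ m) (x : N m),
      j k l h₁ (j l m h₂ x) = j k m (h₁.trans h₂) x)
    (hj_id : ∀ k (x : N k), j k k le_rfl x = x)
    (hjμ : ∀ k (a : I) (x : N k), j k (k + 1) (Nat.le_succ k) (μ k a x) = (a : A) • x)
    (Q : ∀ k, Submodule A (N k)) (hQμ : ∀ k (a : I) (x : N k), x ∈ Q k → μ k a x ∈ Q (k + 1))
    (hQkill : ∀ k, ∀ a ∈ I ^ k, ∀ x ∈ Q k, a • x = 0) :
    ∃ c : ℕ, ∀ k l (h : k ≤ l), k + c ≤ l → ∀ x ∈ Q l, j k l h x = 0 := by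
  obtain ⟨d, hd⟩ := hN Q hQμ
  -- Step 1: `I^d` kills `Q k` for `k ≥ d`.
  have h1 : ∀ m : ℕ, ∀ a ∈ I ^ d, ∀ x ∈ Q (d + m), a • x = 0 := by
    intro m
    induction m with
    | zero => exact hQkill d
    | succ m ih =>
      intro a ha x hx
      have hx' : x ∈ mulSpan I μ (d + m) (Q (d + m)) := hd (d + m) (Nat.le_add_right d m) hx
      refine mulSpan_induction (P := fun y => a • y = 0) ?_ ?_ ?_ ?_ hx'
      · intro b y hy
        rw [← map_smul, ih a ha y hy, map_zero]
      · simp
      · intro x y hx hy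
        rw [smul_add, hx, hy, add_zero]
      · intro r x hx
        rw [smul_comm, hx, smul_zero]
  -- Step 2: the transition `Q (k+m) → Q k` lands in `I^m • Q k` for `k ≥ d`.
  have h2 : ∀ (k : ℕ), d ≤ k → ∀ (m : ℕ) (x : N (k + m)), x ∈ Q (k + m) →
      j k (k + m) (Nat.le_add_right k m) x ∈ I ^ m • Q k := by
    intro k hk m
    induction m with
    | zero =>
      intro x hx
      have : j k (k + 0) (Nat.le_add_right k 0) x = x := hj_id k x
      rw [this, pow_zero, Ideal.one_eq_top, Submodule.top_smul]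
      exact hx
    | succ m ih =>
      intro x hx
      have hx' : x ∈ mulSpan I μ (k + m) (Q (k + m)) :=
        hd (k + m) (hk.trans (Nat.le_add_right k m)) hx
      refine mulSpan_induction
        (P := fun y => j k (k + (m + 1)) (Nat.le_add_right k (m + 1)) y ∈ I ^ (m + 1) • Q k)
        ?_ ?_ ?_ ?_ hx'
      · intro b (y : N (k + m)) hy
        change j k (k + (m + 1)) (Nat.le_add_right k (m + 1)) (μ (k + m) b y) ∈ _
        have e : j k (k + (m + 1)) (Nat.le_add_right k (m + 1)) (μ (k + m) b y) =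
            j k (k + m) (Nat.le_add_right k m)
              (j (k + m) (k + m + 1) (Nat.le_succ _) (μ (k + m) b y)) :=
          (hj_comp k (k + m) (k + m + 1) _ _ _).symm
        rw [e, hjμ, map_smul, pow_succ', mul_smul]
        exact Submodule.smul_mem_smul b.2 (ih y hy)
      · simp
      · intro x y hx hy
        rw [map_add]
        exact add_mem hx hy
      · intro r x hx
        rw [map_smul]
        exact Submodule.smul_mem _ r hx
  -- Step 3: vanishing for `k ≥ d`, `m ≥ d`.
  have h3 : ∀ (k : ℕ), d ≤ k → ∀ (m : ℕ), d ≤ m → ∀ (x : N (k + m)), x ∈ Q (k + m) →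
      j k (k + m) (Nat.le_add_right k m) x = 0 := by
    intro k hk m hm x hx
    have hmem := h2 k hk m x hx
    have hle : I ^ m • Q k ≤ ⊥ := by
      rw [Submodule.smul_le]
      intro a ha y hy
      obtain ⟨m', rfl⟩ := Nat.exists_eq_add_of_le hk
      exact (Submodule.mem_bot A).2 (h1 m' a (Ideal.pow_le_pow_right hm ha) y hy)
    exact (Submodule.mem_bot A).1 (hle hmem)
  refine ⟨d + d, fun k l h hl x hx => ?_⟩
  obtain ⟨m, rfl⟩ : ∃ m, l = (k + d) + m := Nat.exists_eq_add_of_le (by omega)
  have hm : d ≤ m := by omega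
  have e : j k (k + d + m) h x =
      j k (k + d) (Nat.le_add_right k d) (j (k + d) (k + d + m) (Nat.le_add_right _ m) x) :=
    (hj_comp k (k + d) (k + d + m) _ _ x).symm
  rw [e, h3 (k + d) (Nat.le_add_left d k) m hm x hx, map_zero]

end Trans

end GrNoeth

end Groth.Agent.H93.FF
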