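import Mathlib
import Groth.Agent.H93.FF.Alg

/-!
# Formal functions: the pure algebra, II (Mittag-Leffler and the completion isomorphism)
-/

set_option autoImplicit false
universe u v w w' w''

namespace Groth.Agent.H93.FF

variable {A : Type u} [CommRing A] {I : Ideal A}

section ML

variable {N : ℕ → Type v} [∀ k, AddCommGroup (N k)] [∀ k, Module A (N k)]
  {μ : ∀ k, I → (N k →ₗ[A] N (k + 1))}
  {H : Type w} [AddCommGroup H] [Module A H]
  {H' : Type w'} [AddCommGroup H'] [Module A H']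
  {G : ℕ → Type w''} [∀ k, AddCommGroup (G k)] [∀ k, Module A (G k)]

/-- **Mittag-Leffler** (EGA III 4.1.5, part (3)): in the situation
`H --ψ k--> G k --δ k--> N k --φ' k--> H'` (exact at `G k` and `N k`), with `⊕ N k` Noetherian
over the Rees algebra and `I^k G k = 0`, the images of the transitions `G l → G k` coincide with the
image of `H` for `l ≥ k + c`. -/
theorem exists_range_trans_eq (hN : GrNoeth I μ)
    (j : ∀ k l, k ≤ l → (N l →ₗ[A] N k))
    (hj_comp : ∀ k l m (h₁ : k ≤ l) (h₂ : l ≤ m) (x : N m),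
      j k l h₁ (j l m h₂ x) = j k m (h₁.trans h₂) x)
    (hj_id : ∀ k (x : N k), j k k le_rfl x = x)
    (hjμ : ∀ k (a : I) (x : N k), j k (k + 1) (Nat.le_succ k) (μ k a x) = (a : A) • x)
    (ψ : ∀ k, H →ₗ[A] G k) (δ : ∀ k, G k →ₗ[A] N k) (φ' : ∀ k, N k →ₗ[A] H')
    (t : ∀ k l, k ≤ l → (G l →ₗ[A] G k))
    (hψt : ∀ k l (h : k ≤ l) (x : H), t k l h (ψ l x) = ψ k x)
    (hδt : ∀ k l (h : k ≤ l) (x : G l), δ k (t k l h x) = j k l h (δ l x))
    (hexG : ∀ k, LinearMap.ker (δ k) ≤ LinearMap.range (ψ k))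
    (hexN : ∀ k, LinearMap.range (δ k) = LinearMap.ker (φ' k))
    (hφ'μ : ∀ k (a : I) (x : N k), φ' (k + 1) (μ k a x) = (a : A) • φ' k x)
    (hGkill : ∀ k, ∀ a ∈ I ^ k, ∀ x : G k, a • x = 0) :
    ∃ c : ℕ, ∀ k l (h : k ≤ l), k + c ≤ l →
      LinearMap.range (t k l h) = LinearMap.range (ψ k) := by
  obtain ⟨c, hc⟩ := exists_trans_eq_zero j hN hj_comp hj_id hjμ (fun k => LinearMap.range (δ k))
    (by
      intro k a x hx
      rw [hexN] at hx ⊢
      rw [LinearMap.mem_ker] at hx ⊢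
      rw [hφ'μ, hx, smul_zero])
    (by
      rintro k a ha _ ⟨g, rfl⟩
      rw [← map_smul, hGkill k a ha g, map_zero])
  refine ⟨c, fun k l h hl => le_antisymm ?_ ?_⟩
  · rintro _ ⟨x, rfl⟩
    apply hexG k
    rw [LinearMap.mem_ker, hδt]
    exact hc k l h hl _ ⟨x, rfl⟩
  · rintro _ ⟨x, rfl⟩
    exact ⟨ψ l x, hψt k l h x⟩

end ML

section Completion

variable {H : Type w} [AddCommGroup H] [Module A H]
  {G : ℕ → Type w''} [∀ k, AddCommGroup (G k)] [∀ k, Module A (G k)]
  (ψ : ∀ k, H →ₗ[A] G k) (t : ∀ k, G (k + 1) →+ G k)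
  (L : AddSubgroup (∀ k, G k))

variable {ψ}

theorem pow_smul_top_le_ker (hGkill : ∀ k, ∀ a ∈ I ^ (k + 1), ∀ x : G k, a • x = 0) (k : ℕ) :
    (I ^ (k + 1) • ⊤ : Submodule A H) ≤ LinearMap.ker (ψ k) := by
  rw [Submodule.smul_le]
  intro a ha x _
  rw [LinearMap.mem_ker, map_smul]
  exact hGkill k a ha _

variable (ψ) in
/-- `H / I^(k+1) H → G k` induced by `ψ k` -/
noncomputable def ψbar (hGkill : ∀ k, ∀ a ∈ I ^ (k + 1), ∀ x : G k, a • x = 0) (k : ℕ) :
    (H ⧸ (I ^ (k + 1) • ⊤ : Submodule A H)) →ₗ[A] G k :=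
  Submodule.liftQ _ (ψ k) (pow_smul_top_le_ker hGkill k)

@[simp]
theorem ψbar_mk (hGkill : ∀ k, ∀ a ∈ I ^ (k + 1), ∀ x : G k, a • x = 0) (k : ℕ) (h : H) :
    ψbar ψ hGkill k (Submodule.Quotient.mk h) = ψ k h := rfl

variable {t L}

variable (ψ) in
/-- the canonical map from the `I`-adic completion of `H` to `L = lim G k` (where `I^(k+1) G k = 0`
and `L` is the subgroup of families compatible under the transition maps `t`) -/
noncomputable def complToLim (hGkill : ∀ k, ∀ a ∈ I ^ (k + 1), ∀ x : G k, a • x = 0)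
    (hL : ∀ y : ∀ k, G k, y ∈ L ↔ ∀ k, t k (y (k + 1)) = y k)
    (hψt : ∀ k (x : H), t k (ψ (k + 1) x) = ψ k x) :
    AdicCompletion I H →+ L where
  toFun x := ⟨fun k => ψbar ψ hGkill k (x.val (k + 1)), by
    rw [hL]
    intro k
    obtain ⟨h, hh⟩ := Submodule.Quotient.mk_surjective _ (x.val (k + 1 + 1))
    have h2 : x.val (k + 1) = Submodule.Quotient.mk h := by
      rw [← x.2 (Nat.le_succ (k + 1)), ← hh]
      rfl
    change t k (ψbar ψ hGkill (k + 1) (x.val (k + 1 + 1))) = ψbar ψ hGkill k (x.val (k + 1))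
    rw [h2, ← hh, ψbar_mk, ψbar_mk, hψt]⟩
  map_zero' := by
    ext k
    simp [AdicCompletion.val_zero_apply]
  map_add' x y := by
    ext k
    simp [AdicCompletion.val_add_apply]

theorem complToLim_apply (hGkill : ∀ k, ∀ a ∈ I ^ (k + 1), ∀ x : G k, a • x = 0)
    (hL : ∀ y : ∀ k, G k, y ∈ L ↔ ∀ k, t k (y (k + 1)) = y k)
    (hψt : ∀ k (x : H), t k (ψ (k + 1) x) = ψ k x) (x : AdicCompletion I H) (k : ℕ) :
    (complToLim ψ hGkill hL hψt x : ∀ k, G k) k = ψbar ψ hGkill k (x.val (k + 1)) := rfl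

theorem complToLim_of (hGkill : ∀ k, ∀ a ∈ I ^ (k + 1), ∀ x : G k, a • x = 0)
    (hL : ∀ y : ∀ k, G k, y ∈ L ↔ ∀ k, t k (y (k + 1)) = y k)
    (hψt : ∀ k (x : H), t k (ψ (k + 1) x) = ψ k x) (h : H) (k : ℕ) :
    (complToLim ψ hGkill hL hψt (AdicCompletion.of I H h) : ∀ k, G k) k = ψ k h := rfl

theorem ker_ψ_mono (hψt : ∀ k (x : H), t k (ψ (k + 1) x) = ψ k x) {k l : ℕ} (h : k ≤ l) :
    LinearMap.ker (ψ l) ≤ LinearMap.ker (ψ k) := by
  induction l, h using Nat.le_induction with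
  | base => exact le_rfl
  | succ l _ ih =>
    refine le_trans ?_ ih
    intro x hx
    rw [LinearMap.mem_ker] at hx ⊢
    rw [← hψt, hx, map_zero]

/-- **Completion isomorphism** (theorem on formal functions, algebraic core): if every compatible
family in `lim G k` comes termwise from `H` (Mittag-Leffler) and `ker ψ (k + e) ≤ I^k H`
(Artin–Rees), then the canonical map `H^ → lim G k` is bijective. -/
theorem complToLim_bijective (hGkill : ∀ k, ∀ a ∈ I ^ (k + 1), ∀ x : G k, a • x = 0)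
    (hL : ∀ y : ∀ k, G k, y ∈ L ↔ ∀ k, t k (y (k + 1)) = y k)
    (hψt : ∀ k (x : H), t k (ψ (k + 1) x) = ψ k x)
    (hML : ∀ y ∈ L, ∀ k, y k ∈ LinearMap.range (ψ k))
    (e : ℕ) (hAR : ∀ k, LinearMap.ker (ψ (k + e)) ≤ (I ^ k • ⊤ : Submodule A H)) :
    Function.Bijective (complToLim ψ hGkill hL hψt) := by
  constructor
  · rw [injective_iff_map_eq_zero]
    intro x hx
    apply AdicCompletion.ext
    intro n
    rw [AdicCompletion.val_zero_apply]
    obtain ⟨h, hh⟩ := Submodule.Quotient.mk_surjective _ (x.val (n + e + 1))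
    have h0 : ψ (n + e) h = 0 := by
      have := congrArg (fun y : L => (y : ∀ k, G k) (n + e)) hx
      simp only [complToLim_apply] at this
      rw [← hh, ψbar_mk] at this
      exact this
    have hmem : h ∈ (I ^ n • ⊤ : Submodule A H) := hAR n h0
    have h2 : x.val n = Submodule.Quotient.mk h := by
      rw [← x.2 (show n ≤ n + e + 1 by omega), ← hh]
      rfl
    rw [h2]
    exact (Submodule.Quotient.mk_eq_zero _).2 hmem
  · intro y
    have hy2 := (hL y.1).1 y.2
    choose h hh using fun k => hML y.1 y.2 k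
    -- `h (k+1) - h k ∈ ker ψ k`
    have hstep : ∀ k, h (k + 1) - h k ∈ LinearMap.ker (ψ k) := by
      intro k
      rw [LinearMap.mem_ker, map_sub, hh k, ← hψt, hh (k + 1), hy2 k, sub_self]
    have hstep' : ∀ k l, k ≤ l → h l - h k ∈ LinearMap.ker (ψ k) := by
      intro k l hkl
      induction l, hkl using Nat.le_induction with
      | base => simp
      | succ l hl ih =>
        have : h (l + 1) - h k = (h (l + 1) - h l) + (h l - h k) := by abel
        rw [this]
        exact add_mem (ker_ψ_mono hψt hl (hstep l)) ih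
    have hcauchy : AdicCompletion.IsAdicCauchy I H (fun n => h (n + e)) := by
      intro m n hmn
      rw [SModEq.sub_mem]
      have h1 : h (n + e) - h (m + e) ∈ (I ^ m • ⊤ : Submodule A H) :=
        hAR m (hstep' (m + e) (n + e) (by omega))
      have : h (m + e) - h (n + e) = -(h (n + e) - h (m + e)) := by abel
      rw [this]
      exact neg_mem h1
    refine ⟨AdicCompletion.mk I H ⟨fun n => h (n + e), hcauchy⟩, ?_⟩
    apply Subtype.ext
    funext k
    rw [complToLim_apply]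
    change ψbar ψ hGkill k (Submodule.Quotient.mk (h (k + 1 + e))) = (y : ∀ k, G k) k
    rw [ψbar_mk, ← hh k]
    have := hstep' k (k + 1 + e) (by omega)
    rw [LinearMap.mem_ker, map_sub, sub_eq_zero] at this
    exact this

end Completion

end Groth.Agent.H93.FF
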