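import Mathlib
import Groth.Prelude.Def_Formal
import Groth.Agent.H44.SmulModQuot
import Groth.Agent.Lead.Coh.FiniteLES

/-!
# Formal functions: the submodules `I^k M ⊆ M` of an `O_X`-module and their cohomology

`powSub I M k` is `I^k M`, defined as the kernel of `M ⟶ M / I^k M`; we record the short exact
sequences `0 → I^k M → M → M/I^k M → 0`, the inclusions `I^l M ⊆ I^k M` (`k ≤ l`), the
multiplication maps `a : I^k M → I^l M` (`a ∈ I^m`, `l ≤ k + m`) and the induced `A`-linear maps on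
cohomology, with the relations needed for the Artin–Rees / Mittag-Leffler arguments.
-/

set_option autoImplicit false
universe u

open CategoryTheory CategoryTheory.Limits AlgebraicGeometry Opposite TopologicalSpace Abelian

namespace Groth.Agent.H93.FF

open Groth.Agent.Lead.FiniteLES

variable {A : Type u} [CommRing A] {X : Scheme.{u}} [X.Over (Spec (CommRingCat.of A))]

section Nat

variable {X' : Scheme.{u}}

/-- naturality of the connecting homomorphism in the short exact sequence -/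
theorem HHδ_naturality {E E' : ShortComplex X'.Modules} (hE : E.ShortExact) (hE' : E'.ShortExact)
    (Φ : E ⟶ E') (n : ℕ) (x : Coh.HH X' E.X₃ n) :
    HHδ E' hE' n (HHmap Φ.τ₃ n x) = HHmap Φ.τ₁ (n + 1) (HHδ E hE n x) := by
  have hS := Groth.Agent.H49.SectionsExact.shortExact_toSheaf E hE
  have hS' := Groth.Agent.H49.SectionsExact.shortExact_toSheaf E' hE'
  let Φ' : E.map (Groth.Agent.H49.SectionsExact.T X') ⟶ E'.map (Groth.Agent.H49.SectionsExact.T X') :=
    (Groth.Agent.H49.SectionsExact.T X').mapShortComplex.map Φ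
  have h2 := ShortComplex.ShortExact.extClass_naturality hS hS' Φ'
  let x₃ : Ext ((constantSheaf (Opens.grothendieckTopology X') AddCommGrpCat.{u}).obj
      (AddCommGrpCat.of (ULift ℤ))) (Coh.toAb E.X₃) n := x
  have h3 : (x₃.comp (Ext.mk₀ Φ'.τ₃) (add_zero n)).comp hS'.extClass
      (rfl : n + 1 = n + 1) = x₃.comp ((Ext.mk₀ Φ'.τ₃).comp hS'.extClass
        (zero_add 1)) (rfl : n + 1 = n + 1) :=
    Ext.comp_assoc x₃ (Ext.mk₀ Φ'.τ₃) hS'.extClass (add_zero n) (zero_add 1) (by omega)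
  have h4 : x₃.comp (hS.extClass.comp (Ext.mk₀ Φ'.τ₁) (add_zero 1))
      (rfl : n + 1 = n + 1) = (x₃.comp hS.extClass (rfl : n + 1 = n + 1)).comp
        (Ext.mk₀ Φ'.τ₁) (add_zero (n + 1)) :=
    (Ext.comp_assoc x₃ hS.extClass (Ext.mk₀ Φ'.τ₁) rfl (add_zero 1) (by omega)).symm
  change (x₃.comp (Ext.mk₀ Φ'.τ₃) (add_zero n)).comp hS'.extClass rfl =
    (x₃.comp hS.extClass rfl).comp (Ext.mk₀ Φ'.τ₁) (add_zero (n + 1))
  rw [h3, ← h2]
  exact h4

/-- the zero morphism induces zero on cohomology -/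
theorem HHmap_zero {M N : X'.Modules} (n : ℕ) : HHmap (0 : M ⟶ N) n = 0 := by
  ext x
  have h0 : (SheafOfModules.toSheaf X'.ringCatSheaf).map (0 : M ⟶ N) = 0 :=
    Functor.map_zero _ _ _
  change Sheaf.H.map ((SheafOfModules.toSheaf X'.ringCatSheaf).map (0 : M ⟶ N)) n x = 0
  rw [h0]
  change (show Ext _ (Coh.toAb M) n from x).comp (Ext.mk₀ 0) (add_zero n) = 0
  rw [Ext.mk₀_zero, Ext.comp_zero]

theorem HHmap_comp_apply {M N P : X'.Modules} (φ : M ⟶ N) (ψ : N ⟶ P) (n : ℕ)
    (x : Coh.HH X' M n) : HHmap ψ n (HHmap φ n x) = HHmap (φ ≫ ψ) n x := by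
  rw [HHmap_comp]; rfl

end Nat

/-- the `A`-module structure on cohomology is induced by the endomorphisms `Formal.smulMod` -/
theorem smul_eq_HHmap (M : X.Modules) (p : ℕ) (a : A) (x : Coh.HH X M p) :
    a • x = HHmap (Formal.smulMod A M a) p x := rfl

variable (I : Ideal A) (M : X.Modules)

/-- `I^k M`, as the kernel of `M ⟶ M / I^k M` -/
noncomputable def powSub (k : ℕ) : X.Modules := kernel (Formal.modPowπ I k M)

/-- the inclusion `I^k M ⟶ M` -/
noncomputable def powSubι (k : ℕ) : powSub I M k ⟶ M := kernel.ι (Formal.modPowπ I k M)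

instance (k : ℕ) : Mono (powSubι I M k) :=
  inferInstanceAs (Mono (kernel.ι (Formal.modPowπ I k M)))

@[reassoc]
theorem powSubι_π (k : ℕ) : powSubι I M k ≫ Formal.modPowπ I k M = 0 := kernel.condition _

/-- the short complex `0 → I^k M → M → M/I^k M → 0` -/
noncomputable def powSC (k : ℕ) : ShortComplex X.Modules :=
  ShortComplex.mk (powSubι I M k) (Formal.modPowπ I k M) (powSubι_π I M k)

theorem powSC_shortExact (k : ℕ) : (powSC I M k).ShortExact := by
  have h1 : Mono (powSC I M k).f := inferInstanceAs (Mono (powSubι I M k))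
  have h2 : Epi (powSC I M k).g := Groth.Agent.H44.epi_modPowπ I k M
  exact ShortComplex.ShortExact.mk
    (ShortComplex.exact_of_f_is_kernel _ (kernelIsKernel (Formal.modPowπ I k M)))

/-- the transition `M / I^l M ⟶ M / I^k M` for `k ≤ l` -/
noncomputable def modPowLE {k l : ℕ} (h : k ≤ l) : Formal.modPow I l M ⟶ Formal.modPow I k M :=
  cokernel.desc _ (Formal.modPowπ I k M)
    (Formal.smulFamily_π_of_le (Ideal.pow_le_pow_right h) M)

@[reassoc (attr := simp)]
theorem modPowπ_LE {k l : ℕ} (h : k ≤ l) :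
    Formal.modPowπ I l M ≫ modPowLE I M h = Formal.modPowπ I k M :=
  cokernel.π_desc _ _ _

theorem modPowLE_refl (k : ℕ) : modPowLE I M (le_refl k) = 𝟙 _ := by
  haveI := Groth.Agent.H44.epi_modPowπ I k M
  rw [← cancel_epi (Formal.modPowπ I k M), modPowπ_LE, Category.comp_id]

theorem modPowLE_comp {k l m : ℕ} (h₁ : k ≤ l) (h₂ : l ≤ m) :
    modPowLE I M h₂ ≫ modPowLE I M h₁ = modPowLE I M (h₁.trans h₂) := by
  haveI := Groth.Agent.H44.epi_modPowπ I m M
  rw [← cancel_epi (Formal.modPowπ I m M), modPowπ_LE_assoc, modPowπ_LE, modPowπ_LE]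

theorem modPowLE_succ (k : ℕ) : modPowLE I M (Nat.le_succ k) = Formal.modPowTrans I k M := rfl

/-- the inclusion `I^l M ⟶ I^k M` for `k ≤ l` -/
noncomputable def powSubIncl {k l : ℕ} (h : k ≤ l) : powSub I M l ⟶ powSub I M k :=
  kernel.lift _ (powSubι I M l) (by
    rw [← modPowπ_LE I M h, powSubι_π_assoc, zero_comp])

@[reassoc (attr := simp)]
theorem powSubIncl_ι {k l : ℕ} (h : k ≤ l) :
    powSubIncl I M h ≫ powSubι I M k = powSubι I M l :=
  kernel.lift_ι _ _ _

theorem powSubIncl_refl (k : ℕ) : powSubIncl I M (le_refl k) = 𝟙 _ := by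
  rw [← cancel_mono (powSubι I M k), powSubIncl_ι, Category.id_comp]

theorem powSubIncl_comp {k l m : ℕ} (h₁ : k ≤ l) (h₂ : l ≤ m) :
    powSubIncl I M h₂ ≫ powSubIncl I M h₁ = powSubIncl I M (h₁.trans h₂) := by
  rw [← cancel_mono (powSubι I M k), Category.assoc, powSubIncl_ι, powSubIncl_ι, powSubIncl_ι]

/-- the morphism of short exact sequences `(I^l M → M → M/I^l) ⟶ (I^k M → M → M/I^k)`, `k ≤ l` -/
noncomputable def powSCmap {k l : ℕ} (h : k ≤ l) : powSC I M l ⟶ powSC I M k where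
  τ₁ := powSubIncl I M h
  τ₂ := 𝟙 M
  τ₃ := modPowLE I M h
  comm₁₂ := by
    change powSubIncl I M h ≫ powSubι I M k = powSubι I M l ≫ 𝟙 M
    rw [powSubIncl_ι, Category.comp_id]
  comm₂₃ := by
    change 𝟙 M ≫ Formal.modPowπ I k M = Formal.modPowπ I l M ≫ modPowLE I M h
    rw [modPowπ_LE, Category.id_comp]

/-- `a · I^k M ⊆ I^l M` for `a ∈ I^m`, `l ≤ k + m` -/
theorem powSubι_smulMod_π (a : A) {m : ℕ} (ha : a ∈ I ^ m) {k l : ℕ} (h : l ≤ k + m) :
    powSubι I M k ≫ Formal.smulMod A M a ≫ Formal.modPowπ I l M = 0 := by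
  have hfac : Abelian.factorThruImage (Formal.smulFamily (I ^ k) M) ≫ powSubι I M k =
      Formal.smulFamily (I ^ k) M := Abelian.image.fac _
  change (powSubι I M k ≫ Formal.smulMod A M a ≫ Formal.modPowπ I l M :
    Abelian.image (Formal.smulFamily (I ^ k) M) ⟶ _) = 0
  rw [← cancel_epi (Abelian.factorThruImage (Formal.smulFamily (I ^ k) M)), ← Category.assoc,
    hfac, comp_zero]
  apply Sigma.hom_ext
  intro b
  have e : Sigma.ι (fun _ : (I ^ k : Ideal A) => M) b ≫ Formal.smulFamily (I ^ k) M =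
      Formal.smulMod A M (b : A) := by
    simp [Formal.smulFamily]
  rw [comp_zero, ← Category.assoc, e, ← Category.assoc, ← Groth.Agent.H44.smulMod_mul]
  apply Groth.Agent.H44.smulMod_comp_modPowπ_of_mem
  have : (b : A) * a ∈ I ^ (k + m) := by
    rw [pow_add]
    exact Ideal.mul_mem_mul b.2 ha
  exact Ideal.pow_le_pow_right h this

/-- multiplication by `a ∈ I^m` as a morphism `I^k M ⟶ I^l M` (`l ≤ k + m`) -/
noncomputable def powSubMul (a : A) {m : ℕ} (ha : a ∈ I ^ m) {k l : ℕ} (h : l ≤ k + m) :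
    powSub I M k ⟶ powSub I M l :=
  kernel.lift _ (powSubι I M k ≫ Formal.smulMod A M a) (by
    rw [Category.assoc]
    exact powSubι_smulMod_π I M a ha h)

@[reassoc (attr := simp)]
theorem powSubMul_ι (a : A) {m : ℕ} (ha : a ∈ I ^ m) {k l : ℕ} (h : l ≤ k + m) :
    powSubMul I M a ha h ≫ powSubι I M l = powSubι I M k ≫ Formal.smulMod A M a :=
  kernel.lift_ι _ _ _

/-- `I^k M → I^l M → I^k M` (multiplication then inclusion) is multiplication by `a` -/
theorem powSubMul_incl (a : A) {m : ℕ} (ha : a ∈ I ^ m) {k l : ℕ} (h : l ≤ k + m) (hkl : k ≤ l) :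
    powSubMul I M a ha h ≫ powSubIncl I M hkl = Formal.smulMod A (powSub I M k) a := by
  rw [← cancel_mono (powSubι I M k), Category.assoc, powSubIncl_ι, powSubMul_ι,
    Groth.Agent.H44.smulMod_naturality]

/-- `I^l M → I^k M → I^l M` (inclusion then multiplication) is multiplication by `a` -/
theorem powSubIncl_mul (a : A) {m : ℕ} (ha : a ∈ I ^ m) {k l : ℕ} (h : l ≤ k + m) (hkl : k ≤ l) :
    powSubIncl I M hkl ≫ powSubMul I M a ha h = Formal.smulMod A (powSub I M l) a := by
  rw [← cancel_mono (powSubι I M l), Category.assoc, powSubMul_ι, powSubIncl_ι_assoc,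
    Groth.Agent.H44.smulMod_naturality]

/-- `M / I^k M` is killed by `I^k` -/
theorem smulMod_modPow_eq_zero (k : ℕ) (a : A) (ha : a ∈ I ^ k) :
    Formal.smulMod A (Formal.modPow I k M) a = 0 := by
  haveI := Groth.Agent.H44.epi_modPowπ I k M
  rw [← cancel_epi (Formal.modPowπ I k M), comp_zero, ← Groth.Agent.H44.smulMod_naturality,
    Groth.Agent.H44.smulMod_comp_modPowπ_of_mem I k M a ha]

end Groth.Agent.H93.FF
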