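import Mathlib
import Groth.Prelude.Def_Formal
import Groth.Agent.H93.FF.Alg2
import Groth.Agent.H93.FF.PowSub

/-!
# Formal functions from the Rees hypothesis

`REES I M p` : the graded module `⊕_k H^p(X, I^k M)` is Noetherian over the Rees algebra `⊕ I^k`, in
the elementary form `GrNoeth`.  From `REES I M p` and `REES I M (p+1)` we derive the statements of
EGA III 4.1.5 / 4.1.7 (theorem on formal functions): the kernel filtration of `H^p(X, M)` is
`I`-good, the Artin–Rees bound, the uniform Mittag-Leffler condition, and the bijectivity of the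
canonical map `H^p(X, M)^ → lim_n H^p(X, M / I^(n+1) M)`.
-/

set_option autoImplicit false
universe u

open CategoryTheory CategoryTheory.Limits AlgebraicGeometry Opposite TopologicalSpace

namespace Groth.Agent.H93.FF

open Groth.Agent.Lead.FiniteLES

variable {A : Type u} [CommRing A] {X : Scheme.{u}} [X.Over (Spec (CommRingCat.of A))]
variable (I : Ideal A) (M : X.Modules) (p : ℕ)

/-- multiplication by `a ∈ I` : `H^p(X, I^k M) → H^p(X, I^(k+1) M)` -/
noncomputable def mulN (k : ℕ) (a : I) :
    Coh.HH X (powSub I M k) p →ₗ[A] Coh.HH X (powSub I M (k + 1)) p :=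
  toA A (HHmap (powSubMul I M (a : A) (m := 1) (by simp) (le_refl (k + 1))) p)

theorem mulN_apply (k : ℕ) (a : I) (x : Coh.HH X (powSub I M k) p) :
    mulN I M p k a x =
      HHmap (powSubMul I M (a : A) (m := 1) (by simp) (le_refl (k + 1))) p x := rfl

/-- **The Rees hypothesis**: `⊕_k H^p(X, I^k M)` is a Noetherian graded module over the Rees
algebra `⊕_k I^k` (elementary form: every family of `A`-submodules `Q_k ⊆ H^p(X, I^k M)` stable
under multiplication by `I` satisfies `Q_(k+1) = I · Q_k` for `k` large). -/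
def REES : Prop := GrNoeth I (mulN I M p)

/-- `φ_k : H^p(X, I^k M) → H^p(X, M)` -/
noncomputable def phiN (k : ℕ) : Coh.HH X (powSub I M k) p →ₗ[A] Coh.HH X M p :=
  toA A (HHmap (powSubι I M k) p)

theorem phiN_apply (k : ℕ) (x : Coh.HH X (powSub I M k) p) :
    phiN I M p k x = HHmap (powSubι I M k) p x := rfl

/-- `ψ_k : H^p(X, M) → H^p(X, M / I^k M)` -/
noncomputable def psiN (k : ℕ) : Coh.HH X M p →ₗ[A] Coh.HH X (Formal.modPow I k M) p :=
  toA A (HHmap (Formal.modPowπ I k M) p)

theorem psiN_apply (k : ℕ) (x : Coh.HH X M p) :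
    psiN I M p k x = HHmap (Formal.modPowπ I k M) p x := rfl

/-- `δ_k : H^p(X, M / I^k M) → H^(p+1)(X, I^k M)` -/
noncomputable def deltaN (k : ℕ) :
    Coh.HH X (Formal.modPow I k M) p →ₗ[A] Coh.HH X (powSub I M k) (p + 1) :=
  toA A (HHδ (powSC I M k) (powSC_shortExact I M k) p)

theorem deltaN_apply (k : ℕ) (x : Coh.HH X (Formal.modPow I k M) p) :
    deltaN I M p k x = HHδ (powSC I M k) (powSC_shortExact I M k) p x := rfl

/-- transitions `H^p(X, M / I^l M) → H^p(X, M / I^k M)` -/
noncomputable def transG {k l : ℕ} (h : k ≤ l) :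
    Coh.HH X (Formal.modPow I l M) p →ₗ[A] Coh.HH X (Formal.modPow I k M) p :=
  toA A (HHmap (modPowLE I M h) p)

theorem transG_apply {k l : ℕ} (h : k ≤ l) (x : Coh.HH X (Formal.modPow I l M) p) :
    transG I M p h x = HHmap (modPowLE I M h) p x := rfl

/-- transitions `H^p(X, I^l M) → H^p(X, I^k M)` -/
noncomputable def transN {k l : ℕ} (h : k ≤ l) :
    Coh.HH X (powSub I M l) p →ₗ[A] Coh.HH X (powSub I M k) p :=
  toA A (HHmap (powSubIncl I M h) p)

theorem transN_apply {k l : ℕ} (h : k ≤ l) (x : Coh.HH X (powSub I M l) p) :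
    transN I M p h x = HHmap (powSubIncl I M h) p x := rfl

theorem phiN_mulN (k : ℕ) (a : I) (x : Coh.HH X (powSub I M k) p) :
    phiN I M p (k + 1) (mulN I M p k a x) = (a : A) • phiN I M p k x := by
  rw [phiN_apply, mulN_apply, phiN_apply, smul_eq_HHmap, HHmap_comp_apply, HHmap_comp_apply,
    powSubMul_ι]

theorem ker_psiN (k : ℕ) : LinearMap.ker (psiN I M p k) = LinearMap.range (phiN I M p k) := by
  ext x
  exact ((ker_toA A (HHmap (powSC I M k).g p) x).trans
    (SetLike.ext_iff.1 (ker_HHmap_g (powSC I M k) (powSC_shortExact I M k) p) x)).trans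
    (range_toA A (HHmap (powSC I M k).f p) x).symm

theorem ker_deltaN (k : ℕ) : LinearMap.ker (deltaN I M p k) = LinearMap.range (psiN I M p k) := by
  ext x
  exact ((ker_toA A (HHδ (powSC I M k) (powSC_shortExact I M k) p) x).trans
    (SetLike.ext_iff.1 (ker_HHδ (powSC I M k) (powSC_shortExact I M k) p) x)).trans
    (range_toA A (HHmap (powSC I M k).g p) x).symm

theorem range_deltaN (k : ℕ) :
    LinearMap.range (deltaN I M p k) = LinearMap.ker (phiN I M (p + 1) k) := by
  ext x
  exact (((ker_toA A (HHmap (powSC I M k).f (p + 1)) x).trans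
    (SetLike.ext_iff.1 (ker_HHmap_f_succ (powSC I M k) (powSC_shortExact I M k) p) x)).trans
    (range_toA A (HHδ (powSC I M k) (powSC_shortExact I M k) p) x).symm).symm

theorem transN_comp {k l m : ℕ} (h₁ : k ≤ l) (h₂ : l ≤ m) (x : Coh.HH X (powSub I M m) p) :
    transN I M p h₁ (transN I M p h₂ x) = transN I M p (h₁.trans h₂) x := by
  rw [transN_apply, transN_apply, transN_apply, HHmap_comp_apply, powSubIncl_comp]

theorem transN_id (k : ℕ) (x : Coh.HH X (powSub I M k) p) : transN I M p (le_refl k) x = x := by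
  rw [transN_apply, powSubIncl_refl, HHmap_id]
  rfl

theorem transN_mulN (k : ℕ) (a : I) (x : Coh.HH X (powSub I M k) p) :
    transN I M p (Nat.le_succ k) (mulN I M p k a x) = (a : A) • x := by
  rw [transN_apply, mulN_apply, smul_eq_HHmap, HHmap_comp_apply, powSubMul_incl]

theorem transG_psiN {k l : ℕ} (h : k ≤ l) (x : Coh.HH X M p) :
    transG I M p h (psiN I M p l x) = psiN I M p k x := by
  rw [transG_apply, psiN_apply, psiN_apply, HHmap_comp_apply, modPowπ_LE]

theorem deltaN_transG {k l : ℕ} (h : k ≤ l) (x : Coh.HH X (Formal.modPow I l M) p) :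
    deltaN I M p k (transG I M p h x) = transN I M (p + 1) h (deltaN I M p l x) := by
  rw [deltaN_apply, transG_apply, transN_apply, deltaN_apply]
  exact HHδ_naturality (powSC_shortExact I M l) (powSC_shortExact I M k) (powSCmap I M h) p x

theorem modPow_kill (k : ℕ) (a : A) (ha : a ∈ I ^ k) (x : Coh.HH X (Formal.modPow I k M) p) :
    a • x = 0 := by
  rw [smul_eq_HHmap, smulMod_modPow_eq_zero I M k a ha, HHmap_zero]
  rfl

/-! ### The good filtration -/

theorem toHHmodPow_apply (n : ℕ) (x : Coh.HH X M p) :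
    Formal.toHHmodPow I M p n x = psiN I M p (n + 1) x := rfl

/-- the kernel of `H^p(X, M) → H^p(X, M / I^(n+1) M)`, as a set, is the image of `H^p(X, I^(n+1) M)` -/
theorem ker_toHHmodPow (n : ℕ) :
    ((Formal.toHHmodPow I M p n).ker : Set (Coh.HH X M p)) =
      (LinearMap.range (phiN I M p (n + 1)) : Set (Coh.HH X M p)) := by
  rw [← ker_psiN]
  ext x
  rw [SetLike.mem_coe, SetLike.mem_coe, AddMonoidHom.mem_ker, LinearMap.mem_ker, toHHmodPow_apply]

/-- **Good filtration** (S4461 from REES). -/
theorem good_filtration (hR : REES I M p) :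
    ∃ k₀ : ℕ, ∀ k : ℕ, k₀ ≤ k →
      ((Formal.toHHmodPow I M p (k + 1)).ker : Set (Coh.HH X M p)) =
        ((I • Submodule.span A ((Formal.toHHmodPow I M p k).ker : Set (Coh.HH X M p)) :
          Submodule A (Coh.HH X M p)) : Set (Coh.HH X M p)) := by
  obtain ⟨d, hd⟩ := exists_range_succ_eq hR (phiN I M p) (phiN_mulN I M p)
  refine ⟨d, fun k hk => ?_⟩
  rw [ker_toHHmodPow, ker_toHHmodPow, Submodule.span_eq, hd (k + 1) (by omega)]

/-- **Artin–Rees bound** (S0057 from REES). -/
theorem kernels_adically_small (hR : REES I M p) :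
    ∃ c : ℕ, ∀ n : ℕ, c ≤ n →
      ((Formal.toHHmodPow I M p n).ker : Set (Coh.HH X M p)) ⊆
        ((I ^ (n - c) • (⊤ : Submodule A (Coh.HH X M p)) : Submodule A (Coh.HH X M p)) :
          Set (Coh.HH X M p)) := by
  obtain ⟨d, hd⟩ := exists_range_le_pow_smul_top hR (phiN I M p) (phiN_mulN I M p)
  refine ⟨d, fun n hn => ?_⟩
  rw [ker_toHHmodPow]
  have h1 : n + 1 = (n - d + 1) + d := by omega
  rw [h1]
  refine le_trans (hd (n - d + 1)) ?_
  exact Submodule.smul_mono (Ideal.pow_le_pow_right (Nat.le_succ _)) le_rfl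

/-! ### Mittag-Leffler -/

/-- **Uniform Mittag-Leffler**, in terms of the `modPowLE` transitions. -/
theorem exists_range_transG_eq (hR' : REES I M (p + 1)) :
    ∃ c : ℕ, ∀ k l (h : k ≤ l), k + c ≤ l →
      LinearMap.range (transG I M p h) = LinearMap.range (psiN I M p k) :=
  exists_range_trans_eq hR' (fun _ _ h => transN I M (p + 1) h)
    (fun _ _ _ h₁ h₂ x => transN_comp I M (p + 1) h₁ h₂ x)
    (fun k x => transN_id I M (p + 1) k x)
    (fun k a x => transN_mulN I M (p + 1) k a x)
    (psiN I M p) (deltaN I M p) (phiN I M (p + 1))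
    (fun _ _ h => transG I M p h)
    (fun _ _ h x => transG_psiN I M p h x)
    (fun _ _ h x => deltaN_transG I M p h x)
    (fun k => (ker_deltaN I M p k).le)
    (fun k => range_deltaN I M p k)
    (fun k a x => phiN_mulN I M (p + 1) k a x)
    (fun k a ha x => modPow_kill I M p k a ha x)

/-- the transition maps of `Formal.completion` are the `modPowLE` -/
theorem completion_map {n k : ℕ} (h : n ≤ k) :
    (Formal.completion I M).map (homOfLE h).op = modPowLE I M (Nat.succ_le_succ h) := by
  induction k, h using Nat.le_induction with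
  | base =>
    rw [modPowLE_refl]
    exact (Formal.completion I M).map_id _
  | succ k hk ih =>
    have e : (homOfLE (hk.trans (Nat.le_succ k))).op =
        (homOfLE (Nat.le_add_right k 1)).op ≫ (homOfLE hk).op := rfl
    have e2 : (Formal.completion I M).map (homOfLE (Nat.le_add_right k 1)).op =
        Formal.modPowTrans I (k + 1) M :=
      Functor.ofOpSequence_map_homOfLE_succ _ k
    rw [e, Functor.map_comp, ih, e2]
    exact modPowLE_comp I M (Nat.succ_le_succ hk) (Nat.le_succ (k + 1))

theorem HHmap_completion_map {n k : ℕ} (h : n ≤ k) (y : Formal.HHmodPow I M p k) :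
    Sheaf.H.map ((SheafOfModules.toSheaf X.ringCatSheaf).map
      ((Formal.completion I M).map (homOfLE h).op)) p y =
        transG I M p (Nat.succ_le_succ h) y := by
  rw [completion_map]
  rfl

/-- **Uniform Mittag-Leffler** (S0058 from REES in degree `p+1`). -/
theorem mittag_leffler (hR' : REES I M (p + 1)) :
    ∃ c : ℕ, ∀ (n k : ℕ) (h : n ≤ k), n + c ≤ k →
      Set.range (Sheaf.H.map ((SheafOfModules.toSheaf X.ringCatSheaf).map
        ((Formal.completion I M).map (homOfLE h).op)) p) =
          Set.range (Formal.toHHmodPow I M p n) := by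
  obtain ⟨c, hc⟩ := exists_range_transG_eq I M p hR'
  refine ⟨c, fun n k h hnk => ?_⟩
  have := hc (n + 1) (k + 1) (Nat.succ_le_succ h) (by omega)
  ext y
  constructor
  · rintro ⟨z, rfl⟩
    have hz : transG I M p (Nat.succ_le_succ h) z ∈ LinearMap.range (psiN I M p (n + 1)) := by
      rw [← this]
      exact ⟨z, rfl⟩
    obtain ⟨w, hw⟩ := hz
    exact ⟨w, by rw [toHHmodPow_apply, hw, HHmap_completion_map]⟩
  · rintro ⟨w, rfl⟩
    have hw : psiN I M p (n + 1) w ∈ LinearMap.range (transG I M p (Nat.succ_le_succ h)) := by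
      rw [this]
      exact ⟨w, rfl⟩
    obtain ⟨z, hz⟩ := hw
    exact ⟨z, by rw [HHmap_completion_map, hz, toHHmodPow_apply]⟩

end Groth.Agent.H93.FF
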