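import Mathlib
import Groth.Agent.H93.FF.Alg

/-!
# Formal functions: the pure algebra, III (transitions land in `I^m`)
-/

set_option autoImplicit false
universe u v w

namespace Groth.Agent.H93.FF

variable {A : Type u} [CommRing A] {I : Ideal A}
  {N : ℕ → Type v} [∀ k, AddCommGroup (N k)] [∀ k, Module A (N k)]
  {μ : ∀ k, I → (N k →ₗ[A] N (k + 1))}
  (j : ∀ k l, k ≤ l → (N l →ₗ[A] N k))

/-- if `Q (k+1) ≤ I · Q k` for `k ≥ d`, then the transition `Q (k + m) → Q k` lands in
`I^m • Q k` for `k ≥ d`. -/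
theorem trans_mem_pow_smul
    (hj_comp : ∀ k l m (h₁ : k ≤ l) (h₂ : l ≤ m) (x : N m),
      j k l h₁ (j l m h₂ x) = j k m (h₁.trans h₂) x)
    (hj_id : ∀ k (x : N k), j k k le_rfl x = x)
    (hjμ : ∀ k (a : I) (x : N k), j k (k + 1) (Nat.le_succ k) (μ k a x) = (a : A) • x)
    (Q : ∀ k, Submodule A (N k)) (d : ℕ)
    (hd : ∀ k, d ≤ k → Q (k + 1) ≤ mulSpan I μ k (Q k)) (k : ℕ) (hk : d ≤ k) (m : ℕ)
    (x : N (k + m)) (hx : x ∈ Q (k + m)) :
    j k (k + m) (Nat.le_add_right k m) x ∈ I ^ m • Q k := by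
  induction m with
  | zero =>
    have : j k (k + 0) (Nat.le_add_right k 0) x = x := hj_id k x
    rw [this, pow_zero, Ideal.one_eq_top, Submodule.top_smul]
    exact hx
  | succ m ih =>
    have hx' : x ∈ mulSpan I μ (k + m) (Q (k + m)) :=
      hd (k + m) (hk.trans (Nat.le_add_right k m)) hx
    refine mulSpan_induction
      (P := fun y => j k (k + (m + 1)) (Nat.le_add_right k (m + 1)) y ∈ I ^ (m + 1) • Q k)
      ?_ ?_ ?_ ?_ hx'
    · intro b (y : N (k + m)) hy
      change j k (k + (m + 1)) (Nat.le_add_right k (m + 1)) (μ (k + m) b y) ∈ _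
      have e : j k (k + (m + 1)) (Nat.le_add_right k (m + 1)) (μ (k + m) b y) =
          j k (k + m) (Nat.le_add_right k m)
            (j (k + m) (k + m + 1) (Nat.le_succ _) (μ (k + m) b y)) :=
        (hj_comp k (k + m) (k + m + 1) _ _ _).symm
      rw [e, hjμ, map_smul, pow_succ', mul_smul]
      exact Submodule.smul_mem_smul b.2 (ih y hy)
    · simp
    · intro x y hx hy
      rw [map_add]
      exact add_mem hx hy
    · intro r x hx
      rw [map_smul]
      exact Submodule.smul_mem _ r hx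

/-- **Images of transitions are adically small** (EGA III 4.1.5 / Stacks 02OA (2)):
if `⊕ N k` is generated in degrees `≤ d`, the image of `N (n + m) → N n` is contained in
`I^(m - (d - n)) N n` whenever `d ≤ n + m`. -/
theorem range_trans_le_pow_smul_top
    (hj_comp : ∀ k l m (h₁ : k ≤ l) (h₂ : l ≤ m) (x : N m),
      j k l h₁ (j l m h₂ x) = j k m (h₁.trans h₂) x)
    (hj_id : ∀ k (x : N k), j k k le_rfl x = x)
    (hjμ : ∀ k (a : I) (x : N k), j k (k + 1) (Nat.le_succ k) (μ k a x) = (a : A) • x)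
    (d : ℕ) (hd : ∀ k, d ≤ k → (⊤ : Submodule A (N (k + 1))) ≤ mulSpan I μ k ⊤)
    (n m : ℕ) (hnm : d ≤ n + m) (x : N (n + m)) :
    j n (n + m) (Nat.le_add_right n m) x ∈ (I ^ (m - (d - n)) • ⊤ : Submodule A (N n)) := by
  by_cases hn : d ≤ n
  · have h0 : d - n = 0 := Nat.sub_eq_zero_of_le hn
    rw [h0, Nat.sub_zero]
    exact trans_mem_pow_smul j hj_comp hj_id hjμ (fun _ => ⊤) d hd n hn m x Submodule.mem_top
  · have hn' : n ≤ d := by omega
    obtain ⟨m', hm'⟩ : ∃ m', n + m = d + m' := ⟨n + m - d, by omega⟩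
    have hexp : m - (d - n) = m' := by omega
    rw [hexp]
    -- transport `x` to `N (d + m')`
    have key : ∀ (l : ℕ) (hl : l = d + m') (hnl : n ≤ l) (x : N l),
        j n l hnl x ∈ (I ^ m' • ⊤ : Submodule A (N n)) := by
      intro l hl hnl x
      subst hl
      have h1 := trans_mem_pow_smul j hj_comp hj_id hjμ (fun _ => ⊤) d hd d le_rfl m' x
        Submodule.mem_top
      have e : j n (d + m') hnl x = j n d hn' (j d (d + m') (Nat.le_add_right d m') x) :=
        (hj_comp n d (d + m') _ _ x).symm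
      rw [e]
      have hmap : (I ^ m' • (⊤ : Submodule A (N d))).map (j n d hn') ≤ I ^ m' • ⊤ := by
        rw [Submodule.map_smul'']
        exact Submodule.smul_mono le_rfl le_top
      exact hmap ⟨_, h1, rfl⟩
    exact key (n + m) hm' _ x

end Groth.Agent.H93.FF
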