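import Mathlib
import Groth.Prelude.Def_Formal
import Groth.Agent.H93.FF.Main

/-!
# Formal functions from the Rees hypothesis, II: the completion isomorphism
-/

set_option autoImplicit false
universe u

open CategoryTheory CategoryTheory.Limits AlgebraicGeometry Opposite TopologicalSpace

namespace Groth.Agent.H93.FF

open Groth.Agent.Lead.FiniteLES

variable {A : Type u} [CommRing A] {X : Scheme.{u}} [X.Over (Spec (CommRingCat.of A))]
variable (I : Ideal A) (M : X.Modules) (p : ℕ)

/-! ### The completion isomorphism -/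

theorem HHmodPowTrans_apply (n : ℕ) (y : Formal.HHmodPow I M p (n + 1)) :
    Formal.HHmodPowTrans I M p n y = transG I M p (Nat.le_succ (n + 1)) y := rfl

theorem mem_HHlim (y : ∀ n, Formal.HHmodPow I M p n) :
    y ∈ Formal.HHlim I M p ↔ ∀ n, Formal.HHmodPowTrans I M p n (y (n + 1)) = y n := Iff.rfl

theorem killS (n : ℕ) (a : A) (ha : a ∈ I ^ (n + 1)) (x : Formal.HHmodPow I M p n) : a • x = 0 :=
  modPow_kill I M p (n + 1) a ha x

theorem transS_psiS (n : ℕ) (x : Coh.HH X M p) :
    Formal.HHmodPowTrans I M p n (psiN I M p (n + 1 + 1) x) = psiN I M p (n + 1) x := by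
  rw [HHmodPowTrans_apply, transG_psiN]

theorem transG_of_mem_HHlim (y : ∀ n, Formal.HHmodPow I M p n) (hy : y ∈ Formal.HHlim I M p)
    {k l : ℕ} (h : k ≤ l) : transG I M p (Nat.succ_le_succ h) (y l) = y k := by
  induction l, h using Nat.le_induction with
  | base =>
    rw [transG_apply, modPowLE_refl, HHmap_id]
    rfl
  | succ l hl ih =>
    rw [← ih, ← (mem_HHlim I M p y).1 hy l, HHmodPowTrans_apply, transG_apply, transG_apply,
      transG_apply, HHmap_comp_apply, modPowLE_comp]

/-- the canonical map `H^p(X, M)^ → lim_n H^p(X, M/I^(n+1)M)` -/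
noncomputable def complToHHlim : AdicCompletion I (Coh.HH X M p) →+ Formal.HHlim I M p :=
  complToLim (fun n => psiN I M p (n + 1)) (killS I M p) (mem_HHlim I M p) (transS_psiS I M p)

theorem complToHHlim_of (x : Coh.HH X M p) :
    complToHHlim I M p (AdicCompletion.of I _ x) = Formal.toHHlim I M p x := by
  apply Subtype.ext
  funext n
  exact (toHHmodPow_apply I M p n x).symm

/-- **Theorem on formal functions** (canonical form) from REES in degrees `p` and `p+1`. -/
theorem complToHHlim_bijective (hR : REES I M p) (hR' : REES I M (p + 1)) :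
    Function.Bijective (complToHHlim I M p) := by
  obtain ⟨c, hc⟩ := exists_range_transG_eq I M p hR'
  obtain ⟨d, hd⟩ := exists_range_le_pow_smul_top hR (phiN I M p) (phiN_mulN I M p)
  have hML : ∀ y ∈ Formal.HHlim I M p, ∀ k, y k ∈ LinearMap.range (psiN I M p (k + 1)) := by
    intro y hy k
    have h1 := transG_of_mem_HHlim I M p y hy (Nat.le_add_right k c)
    have h2 := hc (k + 1) (k + c + 1) (Nat.succ_le_succ (Nat.le_add_right k c)) (by omega)
    rw [← h1, ← h2]
    exact ⟨_, rfl⟩
  have hAR : ∀ k, LinearMap.ker (psiN I M p (k + d + 1)) ≤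
      (I ^ k • ⊤ : Submodule A (Coh.HH X M p)) := by
    intro k
    rw [ker_psiN]
    have h1 : k + d + 1 = (k + 1) + d := by omega
    rw [h1]
    refine le_trans (hd (k + 1)) ?_
    exact Submodule.smul_mono (Ideal.pow_le_pow_right (Nat.le_succ _)) le_rfl
  exact complToLim_bijective (ψ := fun n => psiN I M p (n + 1))
    (t := Formal.HHmodPowTrans I M p) (L := Formal.HHlim I M p)
    (killS I M p) (mem_HHlim I M p) (transS_psiS I M p) hML d hAR

/-- S0059 from REES. -/
theorem nonempty_addEquiv (hR : REES I M p) (hR' : REES I M (p + 1)) :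
    Nonempty (AdicCompletion I (Coh.HH X M p) ≃+ Formal.HHlim I M p) :=
  ⟨AddEquiv.ofBijective (complToHHlim I M p) (complToHHlim_bijective I M p hR hR')⟩

/-- S0003 from REES and completeness of `H^p(X, M)`. -/
theorem toHHlim_bijective (hR : REES I M p) (hR' : REES I M (p + 1))
    (hc : IsAdicComplete I (Coh.HH X M p)) :
    Function.Bijective (Formal.toHHlim I M p) := by
  have h1 := complToHHlim_bijective I M p hR hR'
  have h2 : Function.Bijective (AdicCompletion.of I (Coh.HH X M p)) :=
    AdicCompletion.of_bijective I _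
  have : (Formal.toHHlim I M p : Coh.HH X M p → Formal.HHlim I M p) =
      complToHHlim I M p ∘ AdicCompletion.of I (Coh.HH X M p) := by
    funext x
    exact (complToHHlim_of I M p x).symm
  rw [this]
  exact h1.comp h2

end Groth.Agent.H93.FF
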