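import Mathlib
import Groth.Prelude.Def_Formal
import Groth.Agent.H93.FF.Compl

/-!
# The canonical map `H^p(X, M)^ → lim_n H^p(X, M/I^(n+1)M)` is `A`-linear (componentwise)
-/

set_option autoImplicit false
universe u

open CategoryTheory CategoryTheory.Limits AlgebraicGeometry Opposite TopologicalSpace

namespace Groth.Agent.H93.FF

variable {A : Type u} [CommRing A] {X : Scheme.{u}} [X.Over (Spec (CommRingCat.of A))]
variable (I : Ideal A) (M : X.Modules) (p : ℕ)

/-- componentwise description of the canonical map: the `n`-th component of `complToHHlim x` is the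
image of `x_(n+1) ∈ H^p(X, M) / I^(n+1)` under the map induced by `toHHmodPow I M p n`. -/
theorem complToHHlim_apply_mk (x : AdicCompletion I (Coh.HH X M p)) (n : ℕ) (h : Coh.HH X M p)
    (hx : x.val (n + 1) = Submodule.Quotient.mk h) :
    (complToHHlim I M p x : ∀ n, Formal.HHmodPow I M p n) n = Formal.toHHmodPow I M p n h := by
  change ψbar (fun n => psiN I M p (n + 1)) (killS I M p) n (x.val (n + 1)) = _
  rw [hx, ψbar_mk]
  rfl

/-- the canonical map is `A`-linear (componentwise; `Formal.HHlim` is only an additive subgroup) -/
theorem complToHHlim_smul (a : A) (x : AdicCompletion I (Coh.HH X M p)) (n : ℕ) :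
    (complToHHlim I M p (a • x) : ∀ n, Formal.HHmodPow I M p n) n =
      a • (complToHHlim I M p x : ∀ n, Formal.HHmodPow I M p n) n := by
  change ψbar (fun n => psiN I M p (n + 1)) (killS I M p) n ((a • x).val (n + 1)) =
    a • ψbar (fun n => psiN I M p (n + 1)) (killS I M p) n (x.val (n + 1))
  rw [AdicCompletion.val_smul_apply, map_smul]

end Groth.Agent.H93.FF
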