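import Mathlib
import Groth.Prelude.Def_Formal2
import Groth.Agent.H93.FF.Alg3
import Groth.Agent.H93.FF.Main

/-!
# Formal functions from the Rees hypothesis, III: the kernels and images of
`H^p(X, I^n M) → H^p(X, I^m M)` (S0837, S0853 from REES)
-/

set_option autoImplicit false
universe u

open CategoryTheory CategoryTheory.Limits AlgebraicGeometry Opposite TopologicalSpace

namespace Groth.Agent.H93.FF

open Groth.Agent.Lead.FiniteLES

variable {A : Type u} [CommRing A] {X : Scheme.{u}} [X.Over (Spec (CommRingCat.of A))]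
variable (I : Ideal A) (M : X.Modules) (p : ℕ)

/-- multiplication by `a ∈ I^k` as a morphism `M ⟶ I^k M` -/
noncomputable def mulInto (k : ℕ) (a : A) (ha : a ∈ I ^ k) : M ⟶ powSub I M k :=
  kernel.lift _ (Formal.smulMod A M a) (Groth.Agent.H44.smulMod_comp_modPowπ_of_mem I k M a ha)

@[reassoc (attr := simp)]
theorem mulInto_ι (k : ℕ) (a : A) (ha : a ∈ I ^ k) :
    mulInto I M k a ha ≫ powSubι I M k = Formal.smulMod A M a :=
  kernel.lift_ι _ _ _

theorem powSubι_mulInto (k : ℕ) (a : A) (ha : a ∈ I ^ k) :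
    powSubι I M k ≫ mulInto I M k a ha = Formal.smulMod A (powSub I M k) a := by
  rw [← cancel_mono (powSubι I M k), Category.assoc, mulInto_ι,
    Groth.Agent.H44.smulMod_naturality]

/-- `ker (H^p(X, I^k M) → H^p(X, M))` is killed by `I^k` -/
theorem smul_eq_zero_of_phiN_eq_zero (k : ℕ) (a : A) (ha : a ∈ I ^ k)
    (x : Coh.HH X (powSub I M k) p) (hx : phiN I M p k x = 0) : a • x = 0 := by
  rw [smul_eq_HHmap, ← powSubι_mulInto I M k a ha, ← HHmap_comp_apply, ← phiN_apply, hx, map_zero]

theorem phiN_transN {k l : ℕ} (h : k ≤ l) (x : Coh.HH X (powSub I M l) p) :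
    phiN I M p k (transN I M p h x) = phiN I M p l x := by
  rw [phiN_apply, transN_apply, phiN_apply, HHmap_comp_apply, powSubIncl_ι]

/-- the transitions `ker φ_l → ker φ_k` vanish for `l ≥ k + c` -/
theorem exists_transN_eq_zero (hR : REES I M p) :
    ∃ c : ℕ, ∀ k l (h : k ≤ l), k + c ≤ l → ∀ x : Coh.HH X (powSub I M l) p,
      phiN I M p l x = 0 → transN I M p h x = 0 := by
  obtain ⟨c, hc⟩ := exists_trans_eq_zero (fun _ _ h => transN I M p h) hR
    (fun _ _ _ h₁ h₂ x => transN_comp I M p h₁ h₂ x)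
    (fun k x => transN_id I M p k x)
    (fun k a x => transN_mulN I M p k a x)
    (fun k => LinearMap.ker (phiN I M p k))
    (by
      intro k a x hx
      rw [LinearMap.mem_ker] at hx ⊢
      rw [phiN_mulN, hx, smul_zero])
    (by
      intro k a ha x hx
      exact smul_eq_zero_of_phiN_eq_zero I M p k a ha x hx)
  exact ⟨c, fun k l h hkl x hx => hc k l h hkl x hx⟩

theorem idealPowModι_apply (n : ℕ) (x : Coh.HH X (Formal2.idealPowMod I n M) p) :
    Sheaf.H.map ((SheafOfModules.toSheaf X.ringCatSheaf).map (Formal2.idealPowModι I n M)) p x =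
      phiN I M p n x := rfl

theorem idealPowIncl_apply {m n : ℕ} (h : m ≤ n) (x : Coh.HH X (Formal2.idealPowMod I n M) p) :
    Sheaf.H.map ((SheafOfModules.toSheaf X.ringCatSheaf).map (Formal2.idealPowIncl I h M)) p x =
      transN I M p h x := rfl

/-- **S0837 from REES.** -/
theorem ker_idealPowModι_eq (hR : REES I M p) :
    ∃ c : ℕ, ∀ (n : ℕ) (_ : c ≤ n),
      (Sheaf.H.map ((SheafOfModules.toSheaf X.ringCatSheaf).map
        (Formal2.idealPowModι I n M)) p).ker =
        (Sheaf.H.map ((SheafOfModules.toSheaf X.ringCatSheaf).map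
          (Formal2.idealPowIncl I (Nat.sub_le n c) M)) p).ker := by
  obtain ⟨c, hc⟩ := exists_transN_eq_zero I M p hR
  refine ⟨c, fun n hn => ?_⟩
  ext x
  rw [AddMonoidHom.mem_ker, AddMonoidHom.mem_ker, idealPowModι_apply, idealPowIncl_apply]
  constructor
  · intro hx
    exact hc (n - c) n (Nat.sub_le n c) (by omega) x hx
  · intro hx
    have h2 := phiN_transN I M p (Nat.sub_le n c) x
    rw [hx] at h2
    exact h2.symm.trans (map_zero (phiN I M p (n - c)))

/-- **S0853 from REES.** -/
theorem range_idealPowIncl_subset (hR : REES I M p) :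
    ∃ c : ℕ, ∀ (n m : ℕ), c ≤ n + m →
      Set.range (Sheaf.H.map ((SheafOfModules.toSheaf X.ringCatSheaf).map
        (Formal2.idealPowIncl I (Nat.le_add_right n m) M)) p) ⊆
        SetLike.coe (I ^ (m - (c - n)) •
          (⊤ : Submodule A (Coh.HH X (Formal2.idealPowMod I n M) p))) := by
  obtain ⟨d, hd⟩ := hR (fun _ => ⊤) (fun _ _ _ _ => Submodule.mem_top)
  refine ⟨d, fun n m hnm => ?_⟩
  rintro _ ⟨x, rfl⟩
  rw [idealPowIncl_apply]
  exact range_trans_le_pow_smul_top (fun _ _ h => transN I M p h)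
    (fun _ _ _ h₁ h₂ x => transN_comp I M p h₁ h₂ x)
    (fun k x => transN_id I M p k x)
    (fun k a x => transN_mulN I M p k a x) d hd n m hnm x

end Groth.Agent.H93.FF
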