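import Mathlib
import Groth.Prelude.Def_ega3
import Groth.Agent.H70.Rees.IdealMulSections
import Groth.Agent.H70.Rees.Graded
import Groth.Agent.H93.FF.Main

/-!
# From the Rees module `⊕_k H^p(X, I^k M)` (in the `CohIII.idealMul` form) to `REES I M p`

`CohIII.idealMul (I^k) M` is the categorical image of `∐_{b ∈ I^k} M ⟶ M`, while `powSub I M k` is the
kernel of `M ⟶ M / I^k M`; they are canonically isomorphic over `M` (`idealMulIso`), compatibly with
the multiplication maps.  Given a Noetherian module `T` over the Rees algebra with a graded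
decomposition `Θ : T ≃+ ⨁_k H^p(X, I^k M)` on which the monomials act through `CohIII.HmulMap`
(this is what the REES chain R1–R5 produces from `S0002` on `X ×_A Spec (reesAlgebra I)`), we
deduce `REES I M p` (`REES_of_rees_data`).
-/

set_option autoImplicit false
universe u v

open CategoryTheory CategoryTheory.Limits AlgebraicGeometry Opposite TopologicalSpace DirectSum

namespace Groth.Agent.H93.FF

open Groth.Agent.Lead.FiniteLES Groth.Agent.H70.Rees

variable {A : Type u} [CommRing A] {X : Scheme.{u}} [X.Over (Spec (CommRingCat.of A))]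
variable (I : Ideal A) (M : X.Modules) (p : ℕ)

/-- `I^k · M` (categorical image) is `I^k M` (kernel of `M ⟶ M / I^k M`) -/
noncomputable def idealMulIso (k : ℕ) : CohIII.idealMul (I ^ k) M ≅ powSub I M k :=
  (Abelian.imageIsoImage (Formal.smulFamily (I ^ k) M)).symm

@[reassoc (attr := simp)]
theorem idealMulIso_hom_ι (k : ℕ) :
    (idealMulIso I M k).hom ≫ powSubι I M k = CohIII.idealMulι (I ^ k) M := by
  have h := Abelian.imageIsoImage_hom_comp_image_ι (Formal.smulFamily (I ^ k) M)
  change (Abelian.imageIsoImage (Formal.smulFamily (I ^ k) M)).inv ≫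
    kernel.ι (cokernel.π (Formal.smulFamily (I ^ k) M)) = _
  rw [Iso.inv_comp_eq]
  exact h.symm

/-- the multiplication maps correspond under `idealMulIso` -/
theorem mulMap_comp_idealMulIso (r k : ℕ) (a : ↥(I ^ r))
    (c : CohIII.idealMul (I ^ r * I ^ k) M ⟶ CohIII.idealMul (I ^ (k + r)) M)
    (hc : c ≫ CohIII.idealMulι (I ^ (k + r)) M = CohIII.idealMulι (I ^ r * I ^ k) M) :
    CohIII.mulMap (I ^ r) (I ^ k) M a ≫ c ≫ (idealMulIso I M (k + r)).hom =
      (idealMulIso I M k).hom ≫ powSubMul I M (a : A) a.2 (le_refl (k + r)) := by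
  rw [← cancel_mono (powSubι I M (k + r))]
  simp only [Category.assoc, idealMulIso_hom_ι, powSubMul_ι, hc]
  rw [Groth.Agent.H70.Rees.mulMap_ι, idealMulIso_hom_ι_assoc]

/-- multiplication by `a ∈ I^0 = A` on `I^k M` is the scalar multiplication -/
theorem powSubMul_zero (k : ℕ) (a : A) (ha : a ∈ I ^ 0) (h : k ≤ k + 0) :
    powSubMul I M a ha h = Formal.smulMod A (powSub I M k) a := by
  rw [← cancel_mono (powSubι I M k), powSubMul_ι, Groth.Agent.H44.smulMod_naturality]

/-- the isomorphism on cohomology induced by `idealMulIso` -/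
noncomputable def EH (k : ℕ) :
    Coh.HH X (CohIII.idealMul (I ^ k) M) p ≃+ Coh.HH X (powSub I M k) p where
  toFun := HHmap (idealMulIso I M k).hom p
  invFun := HHmap (idealMulIso I M k).inv p
  left_inv x := by
    rw [HHmap_comp_apply, Iso.hom_inv_id, HHmap_id]
    rfl
  right_inv x := by
    rw [HHmap_comp_apply, Iso.inv_hom_id, HHmap_id]
    rfl
  map_add' := map_add _

theorem EH_apply (k : ℕ) (x : Coh.HH X (CohIII.idealMul (I ^ k) M) p) :
    EH I M p k x = HHmap (idealMulIso I M k).hom p x := rfl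

section Data

variable {T : Type v} [AddCommGroup T] [Module (reesAlgebra I) T]
  (Θ : T ≃+ ⨁ k, Coh.HH X (CohIII.idealMul (I ^ k) M) p)
  (c : ∀ r k : ℕ, CohIII.idealMul (I ^ r * I ^ k) M ⟶ CohIII.idealMul (I ^ (k + r)) M)

/-- the multiplication maps on `⊕_k H^p(X, I^k · M)` -/
noncomputable def muH (r k : ℕ) (a : ↥(I ^ r)) :
    Coh.HH X (CohIII.idealMul (I ^ k) M) p →+ Coh.HH X (CohIII.idealMul (I ^ (k + r)) M) p :=
  (Sheaf.H.map ((SheafOfModules.toSheaf X.ringCatSheaf).map (c r k)) p).comp
    (CohIII.HmulMap (I ^ r) (I ^ k) M a p)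

variable {c} in
theorem EH_muH (hc : ∀ r k, c r k ≫ CohIII.idealMulι (I ^ (k + r)) M =
      CohIII.idealMulι (I ^ r * I ^ k) M) (r k : ℕ) (a : ↥(I ^ r))
    (x : Coh.HH X (CohIII.idealMul (I ^ k) M) p) :
    EH I M p (k + r) (muH I M p c r k a x) =
      HHmap (powSubMul I M (a : A) a.2 (le_refl (k + r))) p (EH I M p k x) := by
  change HHmap (idealMulIso I M (k + r)).hom p (HHmap (c r k) p
    (HHmap (CohIII.mulMap (I ^ r) (I ^ k) M a) p x)) = _
  rw [EH_apply, HHmap_comp_apply, HHmap_comp_apply, HHmap_comp_apply,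
    mulMap_comp_idealMulIso I M r k a (c r k) (hc r k)]

end Data

end Groth.Agent.H93.FF
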