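import Mathlib
import Groth.Prelude.Def_ega3
import Groth.Agent.H93.FF.Transport

/-!
# `REES I M p` from a Noetherian Rees module graded by the `H^p(X, I^k · M)`
-/

set_option autoImplicit false
universe u v

open CategoryTheory CategoryTheory.Limits AlgebraicGeometry Opposite TopologicalSpace DirectSum

namespace Groth.Agent.H93.FF

open Groth.Agent.Lead.FiniteLES Groth.Agent.H70.Rees

variable {A : Type u} [CommRing A] {X : Scheme.{u}} [X.Over (Spec (CommRingCat.of A))]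
variable (I : Ideal A) (M : X.Modules) (p : ℕ)

section Data

variable {T : Type v} [AddCommGroup T] [Module (reesAlgebra I) T]
  (Θ : T ≃+ ⨁ k, Coh.HH X (CohIII.idealMul (I ^ k) M) p)
  (c : ∀ r k : ℕ, CohIII.idealMul (I ^ r * I ^ k) M ⟶ CohIII.idealMul (I ^ (k + r)) M)

/-- the family `Q'` of submodules of the `H^p(X, I^k M)` pulled back to the `H^p(X, I^k · M)` -/
noncomputable def QH (Q' : ∀ k, Submodule A (Coh.HH X (powSub I M k) p)) (k : ℕ) :
    AddSubgroup (Coh.HH X (CohIII.idealMul (I ^ k) M) p) :=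
  (Q' k).toAddSubgroup.comap (EH I M p k).toAddMonoidHom

theorem mem_QH (Q' : ∀ k, Submodule A (Coh.HH X (powSub I M k) p)) (k : ℕ)
    (x : Coh.HH X (CohIII.idealMul (I ^ k) M) p) :
    x ∈ QH I M p Q' k ↔ EH I M p k x ∈ Q' k := Iff.rfl

variable {c}

theorem QH_stable0 (hc : ∀ r k, c r k ≫ CohIII.idealMulι (I ^ (k + r)) M =
      CohIII.idealMulι (I ^ r * I ^ k) M)
    (Q' : ∀ k, Submodule A (Coh.HH X (powSub I M k) p)) (k : ℕ) (a : ↥(I ^ 0)) :
    (QH I M p Q' k).map (muH I M p c 0 k a) ≤ QH I M p Q' (k + 0) := by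
  rintro _ ⟨x, hx, rfl⟩
  rw [mem_QH, EH_muH I M p hc, powSubMul_zero, ← smul_eq_HHmap]
  exact (Q' k).smul_mem _ ((mem_QH I M p Q' k x).1 hx)

theorem EH_muH_one (hc : ∀ r k, c r k ≫ CohIII.idealMulι (I ^ (k + r)) M =
      CohIII.idealMulι (I ^ r * I ^ k) M) (k : ℕ) (a : ↥(I ^ 1))
    (x : Coh.HH X (CohIII.idealMul (I ^ k) M) p) :
    EH I M p (k + 1) (muH I M p c 1 k a x) =
      mulN I M p k ⟨(a : A), by simpa using a.2⟩ (EH I M p k x) := by
  rw [EH_muH I M p hc, mulN_apply]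

theorem QH_stable1 (hc : ∀ r k, c r k ≫ CohIII.idealMulι (I ^ (k + r)) M =
      CohIII.idealMulι (I ^ r * I ^ k) M)
    (Q' : ∀ k, Submodule A (Coh.HH X (powSub I M k) p))
    (hQ' : ∀ k (a : I) (x : Coh.HH X (powSub I M k) p), x ∈ Q' k → mulN I M p k a x ∈ Q' (k + 1))
    (k : ℕ) (a : ↥(I ^ 1)) :
    (QH I M p Q' k).map (muH I M p c 1 k a) ≤ QH I M p Q' (k + 1) := by
  rintro _ ⟨x, hx, rfl⟩
  rw [mem_QH, EH_muH_one I M p hc]
  exact hQ' k _ _ ((mem_QH I M p Q' k x).1 hx)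

theorem iSup_map_le (hc : ∀ r k, c r k ≫ CohIII.idealMulι (I ^ (k + r)) M =
      CohIII.idealMulι (I ^ r * I ^ k) M)
    (Q' : ∀ k, Submodule A (Coh.HH X (powSub I M k) p)) (k : ℕ)
    (z : Coh.HH X (CohIII.idealMul (I ^ (k + 1)) M) p)
    (hz : z ∈ ⨆ a : ↥(I ^ 1), (QH I M p Q' k).map (muH I M p c 1 k a)) :
    EH I M p (k + 1) z ∈ mulSpan I (mulN I M p) k (Q' k) := by
  induction hz using AddSubgroup.iSup_induction' with
  | hp a z hz =>
    obtain ⟨x, hx, rfl⟩ := hz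
    rw [EH_muH_one I M p hc]
    exact Submodule.subset_span ⟨_, _, (mem_QH I M p Q' k x).1 hx, rfl⟩
  | h1 =>
    rw [map_zero]
    exact Submodule.zero_mem _
  | hadd x y _ _ hx hy =>
    rw [map_add]
    exact Submodule.add_mem _ hx hy

/-- **Transport**: a Noetherian module over the Rees algebra, graded by the `H^p(X, I^k · M)` with
the monomials acting through `CohIII.HmulMap`, gives the Rees hypothesis `REES I M p`. -/
theorem REES_of_rees_data [IsNoetherian (reesAlgebra I) T]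
    (hc : ∀ r k, c r k ≫ CohIII.idealMulι (I ^ (k + r)) M = CohIII.idealMulι (I ^ r * I ^ k) M)
    (hμ : ∀ (r : ℕ) (a : ↥(I ^ r)) (x : T) (k : ℕ),
      Θ (mon I r a • x) (k + r) = muH I M p c r k a (Θ x k))
    (hlow : ∀ (r : ℕ) (a : ↥(I ^ r)) (x : T) (l : ℕ), l < r → Θ (mon I r a • x) l = 0) :
    REES I M p := by
  intro Q' hQ'
  obtain ⟨d, hd⟩ := exists_generation_bound_of_isNoetherian
    (N := fun k => Coh.HH X (CohIII.idealMul (I ^ k) M) p) Θ (muH I M p c) hμ hlow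
    (QH I M p Q') (QH_stable0 I M p hc Q') (QH_stable1 I M p hc Q' hQ')
  refine ⟨d, fun k hk y hy => ?_⟩
  have hy' : (EH I M p (k + 1)).symm y ∈ QH I M p Q' (k + 1) := by
    rw [mem_QH, AddEquiv.apply_symm_apply]
    exact hy
  rw [← hd k hk 1] at hy'
  have h3 : EH I M p (k + 1) ((EH I M p (k + 1)).symm y) ∈
      mulSpan I (mulN I M p) k (Q' k) := iSup_map_le I M p hc Q' k _ hy'
  rwa [AddEquiv.apply_symm_apply] at h3

end Data

end Groth.Agent.H93.FF
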